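import Groth.Agent.AmpleEmb.Inverse
import Groth.Agent.AmpleLib.Pullback

/-!
# The group of isomorphism classes of invertible modules
-/

set_option autoImplicit false
set_option backward.isDefEq.respectTransparency false

universe u

open CategoryTheory AlgebraicGeometry
open Groth.Agent.AmpleLib Groth.Agent.ParaFLib

noncomputable section

namespace Groth.Agent.PicLib

/-- An invertible module. -/
abbrev InvMod (X : Scheme.{u}) : Type (u + 1) := {L : X.Modules // PicF.IsInvertible L}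

instance invModSetoid (X : Scheme.{u}) : Setoid (InvMod X) where
  r L M := Nonempty (L.1 ≅ M.1)
  iseqv := ⟨fun L => ⟨Iso.refl _⟩, fun ⟨e⟩ => ⟨e.symm⟩, fun ⟨e⟩ ⟨f⟩ => ⟨e ≪≫ f⟩⟩

/-- Isomorphism classes of invertible modules. -/
def Pic (X : Scheme.{u}) : Type (u + 1) := Quotient (invModSetoid X)

/-- The class of an invertible module. -/
def cls {X : Scheme.{u}} {L : X.Modules} (h : PicF.IsInvertible L) : Pic X := Quotient.mk _ ⟨L, h⟩

theorem cls_eq_cls {X : Scheme.{u}} {L M : X.Modules} (hL : PicF.IsInvertible L) (hM : PicF.IsInvertible M) :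
    cls hL = cls hM ↔ Nonempty (L ≅ M) :=
  ⟨fun h => Quotient.exact h, fun h => Quotient.sound h⟩

theorem exists_cls {X : Scheme.{u}} (a : Pic X) : ∃ (L : X.Modules) (h : PicF.IsInvertible L), cls h = a := by
  obtain ⟨⟨L, h⟩, rfl⟩ := Quotient.exists_rep a
  exact ⟨L, h, rfl⟩

instance (X : Scheme.{u}) : One (Pic X) := ⟨cls isInvertible_structureModule⟩

instance (X : Scheme.{u}) : Mul (Pic X) :=
  ⟨Quotient.lift₂ (fun L M => cls (isInvertible_tensor L.2 M.2)) fun _ _ _ _ ⟨e⟩ ⟨f⟩ =>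
    (cls_eq_cls _ _).2 ⟨tIso e f⟩⟩

instance (X : Scheme.{u}) : Inv (Pic X) :=
  ⟨Quotient.lift (fun L => cls (exists_isInverseOf L.2).choose_spec.1) fun L M ⟨e⟩ => (cls_eq_cls _ _).2 (by
    obtain ⟨a⟩ := (AmpleEmb.exists_isInverseOf L.2).choose_spec.2
    obtain ⟨b⟩ := (AmpleEmb.exists_isInverseOf M.2).choose_spec.2
    exact ⟨(unitR _).symm ≪≫ tIso (Iso.refl _) b.symm ≪≫ (AmpleLib.assoc _ _ _).symm ≪≫
      tIso (AmpleLib.comm _ _ ≪≫ tIso e.symm (Iso.refl _) ≪≫ a) (Iso.refl _) ≪≫ unitL _⟩)⟩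
where exists_isInverseOf := @AmpleEmb.exists_isInverseOf

instance (X : Scheme.{u}) : CommGroup (Pic X) where
  mul_assoc := by rintro ⟨L⟩ ⟨M⟩ ⟨N⟩; exact Quotient.sound ⟨AmpleLib.assoc _ _ _⟩
  one_mul := by rintro ⟨L⟩; exact Quotient.sound ⟨unitL _⟩
  mul_one := by rintro ⟨L⟩; exact Quotient.sound ⟨unitR _⟩
  inv_mul_cancel := by
    rintro ⟨L⟩
    obtain ⟨a⟩ := (AmpleEmb.exists_isInverseOf L.2).choose_spec.2
    exact Quotient.sound ⟨AmpleLib.comm _ _ ≪≫ a⟩
  mul_comm := by rintro ⟨L⟩ ⟨M⟩; exact Quotient.sound ⟨AmpleLib.comm _ _⟩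

theorem cls_tensor {X : Scheme.{u}} {L M : X.Modules} (hL : PicF.IsInvertible L) (hM : PicF.IsInvertible M) :
    cls (isInvertible_tensor hL hM) = cls hL * cls hM := rfl

theorem cls_structureModule (X : Scheme.{u}) : cls (isInvertible_structureModule (X := X)) = 1 := rfl

theorem cls_eq_one {X : Scheme.{u}} {L : X.Modules} (hL : PicF.IsInvertible L) :
    cls hL = 1 ↔ Nonempty (L ≅ Coh.structureModule X) :=
  cls_eq_cls _ _

theorem cls_tensorPow {X : Scheme.{u}} {L : X.Modules} (hL : PicF.IsInvertible L) :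
    ∀ n, cls (isInvertible_tensorPow hL n) = cls hL ^ n
  | 0 => (pow_zero _).symm
  | n + 1 => by rw [pow_succ, ← cls_tensorPow hL n]; rfl

/-- Inverse image of classes. -/
def pull {X' X : Scheme.{u}} (g : X' ⟶ X) : Pic X →* Pic X' where
  toFun := Quotient.lift (fun L => cls (isInvertible_pullback g L.2)) fun _ _ ⟨e⟩ =>
    (cls_eq_cls _ _).2 ⟨(Scheme.Modules.pullback g).mapIso e⟩
  map_one' := Quotient.sound ⟨pullO g⟩
  map_mul' := by rintro ⟨L⟩ ⟨M⟩; exact Quotient.sound ⟨pullTensor g _ _⟩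

theorem pull_cls {X' X : Scheme.{u}} (g : X' ⟶ X) {L : X.Modules} (hL : PicF.IsInvertible L) :
    pull g (cls hL) = cls (isInvertible_pullback g hL) := rfl

theorem pull_comp {X'' X' X : Scheme.{u}} (g : X'' ⟶ X') (h : X' ⟶ X) (a : Pic X) :
    pull (g ≫ h) a = pull g (pull h a) := by
  obtain ⟨L, hL, rfl⟩ := exists_cls a
  exact (cls_eq_cls _ _).2 ⟨((Scheme.Modules.pullbackComp g h).app L).symm⟩

theorem pull_id {X : Scheme.{u}} (a : Pic X) : pull (𝟙 X) a = a := by
  obtain ⟨L, hL, rfl⟩ := exists_cls a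
  exact (cls_eq_cls _ _).2 ⟨(Scheme.Modules.pullbackId X).app L⟩

/-- Invertible modules on the spectrum of a local ring are trivial. -/
theorem eq_one_of_local {R : CommRingCat.{u}} [IsLocalRing R] (a : Pic (Spec R)) : a = 1 := by
  obtain ⟨L, hL, rfl⟩ := exists_cls a
  rw [cls_eq_one]
  obtain ⟨W, s, hx, hs⟩ := exists_gen_nhd hL (IsLocalRing.closedPoint R)
  obtain rfl : W = ⊤ := eq_top_iff.2 fun z _ =>
    ((PrimeSpectrum.le_iff_specializes z (IsLocalRing.closedPoint R)).1 (IsLocalRing.le_maximalIdeal z.isPrime.ne_top)).mem_open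
      W.isOpen hx
  let φ := DCohLib.secHom L s
  haveI : IsIso φ := isIso_of_locally_app φ fun _ => ⟨⊤, trivial, fun O hO => by
    rw [show (φ.app O : Γ(Spec R, O) → Γ(L, O)) = fun r : Γ(Spec R, O) => r • resT s O from
      funext fun r : Γ(Spec R, O) => by rw [← sec_secHom (L := L) s]; exact app_eq φ O r]
    exact hs O hO⟩
  exact ⟨(asIso φ).symm⟩

end Groth.Agent.PicLib
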