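import Mathlib

/-! Milnor patching: `Pic` of a fibre product surjects to a factor when `Pic` of the overlap is trivial. -/

set_option autoImplicit false
universe u
open TensorProduct

namespace Groth.Agent.PicLib

/-- A surjective pairing satisfying the rank one relations makes a module invertible. -/
theorem invertible_of_pairing {R : Type u} [CommRing R] {M N : Type u} [AddCommGroup M] [Module R M]
    [AddCommGroup N] [Module R N] (β : M →ₗ[R] N →ₗ[R] R) {ι : Type*} (s : Finset ι) (m : ι → M)
    (n : ι → N) (h1 : ∑ k ∈ s, β (m k) (n k) = 1)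
    (hM : ∀ x y z, β x z • y = β y z • x) (hN : ∀ x z w, β x z • w = β x w • z) :
    Module.Invertible R M := by
  let e : M ⊗[R] N ≃ₗ[R] R := LinearEquiv.ofLinearMap (TensorProduct.lift β)
    (LinearMap.toSpanSingleton R (M ⊗[R] N) (∑ k ∈ s, m k ⊗ₜ n k))
    (LinearMap.ext_ring (by
      simp only [LinearMap.comp_apply, LinearMap.toSpanSingleton_apply, one_smul, map_sum,
        TensorProduct.lift.tmul, h1, LinearMap.id_apply]))
    (TensorProduct.ext' fun x z => by
      simp only [LinearMap.comp_apply, TensorProduct.lift.tmul, LinearMap.toSpanSingleton_apply,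
        LinearMap.id_apply, Finset.smul_sum]
      have : ∀ k, β x z • (m k ⊗ₜ[R] n k) = x ⊗ₜ[R] (β (m k) (n k) • z) := fun k => by
        rw [TensorProduct.smul_tmul', hM x (m k) z, TensorProduct.smul_tmul, hN (m k) z (n k)]
      rw [Finset.sum_congr rfl fun k _ => this k, ← TensorProduct.tmul_sum, ← Finset.sum_smul, h1,
        one_smul])
  exact Module.Invertible.left e

theorem dual_smul_comm {S : Type u} [CommRing S] {L : Type u} [AddCommGroup L] [Module S L]
    [Module.Invertible S L] (φ : Module.Dual S L) (x y : L) : φ x • y = φ y • x := by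
  have h := congrArg (fun t => TensorProduct.lid S L (φ.rTensor L t))
    (Module.Invertible.tmul_comm (R := S) (m₁ := x) (m₂ := y))
  simpa using h

variable {R S S' F : Type u} [CommRing R] [CommRing S] [CommRing S'] [CommRing F]
  [Algebra R S] [Algebra R S'] [Algebra R F]

/-- Patching a line bundle on `S` with the trivial one on `S'`. -/
theorem exists_invertible_lift (q : S →ₐ[R] F) (q' : S' →ₐ[R] F) (hq : Function.Surjective q)
    (hq' : Function.Surjective q') (hcrt : ∀ s s', q s = q' s' → ∃ r, algebraMap R S r = s ∧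
      algebraMap R S' r = s')
    (hinj : ∀ r, algebraMap R S r = 0 → algebraMap R S' r = 0 → r = 0)
    [Subsingleton (CommRing.Pic F)]
    (L : Type u) [AddCommGroup L] [Module S L] [Module R L] [IsScalarTower R S L]
    [Module.Invertible S L] :
    ∃ (M : Type u) (_ : AddCommGroup M) (_ : Module R M) (_ : Module.Invertible R M),
      Nonempty (S ⊗[R] M ≃ₗ[S] L) := by
  classical
  letI := q.toRingHom.toAlgebra
  obtain ⟨e⟩ := Module.Invertible.free_iff_linearEquiv.1
    (inferInstance : Module.Free F (F ⊗[S] L))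
  let lam : L →ₗ[S] F := (e.toLinearMap.restrictScalars S) ∘ₗ TensorProduct.mk S F L 1
  have hlam : ∀ t : F ⊗[S] L, ∃ l, lam l = e t := by
    intro t
    induction t with
    | zero => exact ⟨0, by simp⟩
    | tmul f l =>
      obtain ⟨s, rfl⟩ := hq f
      refine ⟨s • l, congrArg e ?_⟩
      rw [TensorProduct.mk_apply, TensorProduct.tmul_smul, TensorProduct.smul_tmul',
        Algebra.smul_def, mul_one]
      rfl
    | add t t' ht ht' =>
      obtain ⟨l, hl⟩ := ht; obtain ⟨l', hl'⟩ := ht'
      exact ⟨l + l', by rw [map_add, map_add, hl, hl']⟩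
  let w : F ⊗[S] L := e.symm 1
  let φF : Module.Dual S L →ₗ[S] F :=
    { toFun := fun φ => TensorProduct.rid S F (φ.lTensor F w)
      map_add' := fun φ ψ => by rw [LinearMap.lTensor_add, LinearMap.add_apply, map_add]
      map_smul' := fun c φ => by
        rw [LinearMap.lTensor_smul, LinearMap.smul_apply, map_smul, RingHom.id_apply] }
  have hmu : ∀ (φ : Module.Dual S L) (l : L), q (φ l) = φF φ * lam l := by
    intro φ l
    let ψ : F ⊗[S] L →ₗ[F] F :=
      (AlgebraTensorModule.rid S F F).toLinearMap ∘ₗ LinearMap.baseChange F φ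
    have hψ : ∀ t, ψ t = TensorProduct.rid S F (φ.lTensor F t) := by
      intro t
      induction t with
      | zero => simp
      | tmul f x => simp [ψ]
      | add t t' ht ht' => simp only [map_add, ht, ht']
    have h1 : (1 : F) ⊗ₜ[S] l = lam l • w := by
      apply e.injective
      rw [map_smul, LinearEquiv.apply_symm_apply, smul_eq_mul, mul_one]
      rfl
    have h2 : ψ ((1 : F) ⊗ₜ[S] l) = q (φ l) := by
      rw [hψ, LinearMap.lTensor_tmul, TensorProduct.rid_tmul, Algebra.smul_def, mul_one]
      rfl
    rw [← h2, h1, map_smul, hψ, smul_eq_mul, mul_comm]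
    rfl
  let lamR : L →ₗ[R] F :=
    { toFun := lam
      map_add' := map_add lam
      map_smul' := fun r l => by
        rw [← IsScalarTower.algebraMap_smul S r l, map_smul, Algebra.smul_def,
          RingHom.id_apply, Algebra.smul_def]
        congr 1
        exact q.commutes r }
  let muR : Module.Dual S L →ₗ[R] F :=
    { toFun := φF
      map_add' := map_add φF
      map_smul' := fun r φ => by
        rw [← IsScalarTower.algebraMap_smul S r φ, map_smul, Algebra.smul_def,
          RingHom.id_apply, Algebra.smul_def]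
        congr 1
        exact q.commutes r }
  let M : Submodule R (L × S') :=
    LinearMap.ker (lamR ∘ₗ LinearMap.fst R L S' - q'.toLinearMap ∘ₗ LinearMap.snd R L S')
  let N : Submodule R (Module.Dual S L × S') :=
    LinearMap.ker (muR ∘ₗ LinearMap.fst R _ S' - q'.toLinearMap ∘ₗ LinearMap.snd R _ S')
  have hMmem : ∀ x, x ∈ M ↔ lam x.1 = q' x.2 := fun x => by
    simp [M, lamR, sub_eq_zero]
  have hNmem : ∀ x, x ∈ N ↔ φF x.1 = q' x.2 := fun x => by
    simp [N, muR, sub_eq_zero]
  have hex : ∀ (x : M) (z : N), ∃ r, algebraMap R S r = z.1.1 x.1.1 ∧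
      algebraMap R S' r = x.1.2 * z.1.2 := by
    intro x z
    refine hcrt _ _ ?_
    rw [hmu, (hNmem _).1 z.2, (hMmem _).1 x.2, map_mul, mul_comm]
  choose β₀ hβS hβS' using hex
  have hext : ∀ r r', algebraMap R S r = algebraMap R S r' →
      algebraMap R S' r = algebraMap R S' r' → r = r' := fun r r' h h' =>
    sub_eq_zero.1 (hinj _ (by rw [map_sub, h, sub_self]) (by rw [map_sub, h', sub_self]))
  let β : M →ₗ[R] N →ₗ[R] R := LinearMap.mk₂ R β₀
    (fun x x' z => hext _ _ (by simp [hβS]) (by simp [hβS', add_mul]))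
    (fun c x z => hext _ _ (by simp [hβS, Algebra.smul_def])
      (by simp [hβS', Algebra.smul_def, mul_assoc]))
    (fun x z z' => hext _ _ (by simp [hβS]) (by simp [hβS', mul_add]))
    (fun c x z => hext _ _ (by simp [hβS, Algebra.smul_def])
      (by simp [hβS', Algebra.smul_def, mul_left_comm]))
  -- the unit
  obtain ⟨T, hT⟩ := ((Module.Invertible.linearEquiv S L).symm 1).exists_finset
  replace hT : ∑ i ∈ T, i.1 i.2 = 1 := by
    simpa [LinearEquiv.symm_apply_eq, Module.Invertible.linearEquiv, eq_comm] using hT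
  choose g hg using hq'
  let mk (i : Module.Dual S L × L) : M := ⟨(i.2, g (lam i.2)), (hMmem _).2 (hg _).symm⟩
  let nk (i : Module.Dual S L × L) : N := ⟨(i.1, g (φF i.1)), (hNmem _).2 (hg _).symm⟩
  let r₀ := ∑ i ∈ T, β (mk i) (nk i)
  have hr₀ : algebraMap R S r₀ = 1 := by
    simp only [r₀, map_sum, β, LinearMap.mk₂_apply, hβS]
    exact hT
  have hqd : q' (algebraMap R S' (1 - r₀)) = 0 := by
    rw [q'.commutes, ← q.commutes, map_sub, hr₀, map_one, sub_self, map_zero]
  obtain ⟨φ₁, hφ₁⟩ : ∃ φ, φF φ = 1 := by
    choose b hb using hq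
    refine ⟨∑ i ∈ T, b (lam i.2) • i.1, ?_⟩
    have h := congrArg q hT
    rw [map_sum, map_one] at h
    rw [map_sum, ← h]
    refine Finset.sum_congr rfl fun i _ => ?_
    rw [map_smul, hmu, Algebra.smul_def, mul_comm]
    exact congrArg (φF i.1 * ·) (hb (lam i.2))
  let m₁ : M := ⟨(0, algebraMap R S' (1 - r₀)), (hMmem _).2 (by simp only [map_zero, hqd])⟩
  let n₁ : N := ⟨(φ₁, 1), (hNmem _).2 (by rw [map_one]; exact hφ₁)⟩
  have hone : r₀ + β m₁ n₁ = 1 := by
    refine hext _ _ ?_ ?_
    · simp [β, hβS, hr₀, m₁]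
    · simp [β, hβS', m₁, n₁]
  haveI hinvM : Module.Invertible R M := by
    refine invertible_of_pairing β (insert none (T.image some))
      (fun o => o.elim m₁ mk) (fun o => o.elim n₁ nk) ?_ ?_ ?_
    · rw [Finset.sum_insert (by simp), Finset.sum_image (by simp), add_comm]
      exact hone
    · intro x y z
      refine Subtype.ext (Prod.ext ?_ ?_)
      · show β x z • y.1.1 = β y z • x.1.1
        rw [← IsScalarTower.algebraMap_smul S (β x z), ← IsScalarTower.algebraMap_smul S (β y z)]
        simp only [β, LinearMap.mk₂_apply, hβS]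
        exact dual_smul_comm _ _ _
      · show β x z • y.1.2 = β y z • x.1.2
        simp only [β, LinearMap.mk₂_apply, Algebra.smul_def, hβS']
        ring
    · intro x z w
      refine Subtype.ext (Prod.ext (LinearMap.ext fun l => ?_) ?_)
      · show (β x z • w.1.1) l = (β x w • z.1.1) l
        rw [← IsScalarTower.algebraMap_smul S (β x z), ← IsScalarTower.algebraMap_smul S (β x w),
          LinearMap.smul_apply, LinearMap.smul_apply]
        simp only [β, LinearMap.mk₂_apply, hβS, smul_eq_mul]
        have h1 := congrArg w.1.1 (dual_smul_comm z.1.1 x.1.1 l)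
        rw [map_smul, map_smul, smul_eq_mul, smul_eq_mul] at h1
        linear_combination h1
      · show β x z • w.1.2 = β x w • z.1.2
        simp only [β, LinearMap.mk₂_apply, Algebra.smul_def, hβS']
        ring
  refine ⟨M, inferInstance, inferInstance, hinvM, ?_⟩
  let f : S ⊗[R] M →ₗ[S] L :=
    LinearMap.liftBaseChange S ((LinearMap.fst R L S').comp M.subtype)
  have hf : Function.Surjective f := fun l =>
    ⟨(1 : S) ⊗ₜ ⟨(l, g (lam l)), (hMmem _).2 (hg _).symm⟩, by simp [f]⟩
  exact ⟨LinearEquiv.ofBijective f (Module.Invertible.bijective_of_surjective hf)⟩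

end Groth.Agent.PicLib
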