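import Groth.Agent.PicLib.Patch

/-! Surjectivity on Picard groups for a quotient with complementary ideal and semilocal overlap. -/

set_option autoImplicit false
universe u
open TensorProduct CommRing

namespace Groth.Agent.PicLib

theorem pic_surjective_factor {A : Type u} [CommRing A] (Iw Iv Iu : Ideal A) (hv : Iw ≤ Iv)
    (hu : Iw ≤ Iu) (hinf : Iv ⊓ Iu ≤ Iw) [Finite (A ⧸ (Iv ⊔ Iu))] :
    Function.Surjective (Pic.mapRingHom (Ideal.Quotient.factor hv)) := by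
  intro x
  letI : Algebra (A ⧸ Iw) (A ⧸ Iv) := (Ideal.Quotient.factor hv).toAlgebra
  letI : Algebra (A ⧸ Iw) (A ⧸ Iu) := (Ideal.Quotient.factor hu).toAlgebra
  letI : Algebra (A ⧸ Iw) (A ⧸ (Iv ⊔ Iu)) :=
    (Ideal.Quotient.factor (hv.trans le_sup_left)).toAlgebra
  let q : A ⧸ Iv →ₐ[A ⧸ Iw] A ⧸ (Iv ⊔ Iu) :=
    { Ideal.Quotient.factor (le_sup_left : Iv ≤ Iv ⊔ Iu) with
      commutes' := fun r => by
        obtain ⟨a, rfl⟩ := Ideal.Quotient.mk_surjective r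
        rfl }
  let q' : A ⧸ Iu →ₐ[A ⧸ Iw] A ⧸ (Iv ⊔ Iu) :=
    { Ideal.Quotient.factor (le_sup_right : Iu ≤ Iv ⊔ Iu) with
      commutes' := fun r => by
        obtain ⟨a, rfl⟩ := Ideal.Quotient.mk_surjective r
        rfl }
  have hcrt : ∀ s s', q s = q' s' → ∃ r, algebraMap (A ⧸ Iw) (A ⧸ Iv) r = s ∧
      algebraMap (A ⧸ Iw) (A ⧸ Iu) r = s' := by
    intro s s' h
    obtain ⟨a, rfl⟩ := Ideal.Quotient.mk_surjective s
    obtain ⟨b, rfl⟩ := Ideal.Quotient.mk_surjective s'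
    have h' : a - b ∈ Iv ⊔ Iu := Ideal.Quotient.eq.1 h
    obtain ⟨i, hi, j, hj, hij⟩ := Submodule.mem_sup.1 h'
    refine ⟨Ideal.Quotient.mk Iw (a - i), Ideal.Quotient.eq.2 ?_, Ideal.Quotient.eq.2 ?_⟩
    · rw [sub_sub_cancel_left]; exact neg_mem hi
    · rw [show a - i - b = j by linear_combination hij.symm]; exact hj
  have hinj : ∀ r, algebraMap (A ⧸ Iw) (A ⧸ Iv) r = 0 → algebraMap (A ⧸ Iw) (A ⧸ Iu) r = 0 →
      r = 0 := by
    intro r h1 h2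
    obtain ⟨a, rfl⟩ := Ideal.Quotient.mk_surjective r
    exact Ideal.Quotient.eq_zero_iff_mem.2
      (hinf ⟨Ideal.Quotient.eq_zero_iff_mem.1 h1, Ideal.Quotient.eq_zero_iff_mem.1 h2⟩)
  haveI : Finite (MaximalSpectrum (A ⧸ (Iv ⊔ Iu))) :=
    Finite.of_injective (fun m => (m.asIdeal : Set (A ⧸ (Iv ⊔ Iu))))
      (fun m m' h => MaximalSpectrum.ext (SetLike.coe_injective h))
  letI : Module (A ⧸ Iw) x := Module.compHom x (Ideal.Quotient.factor hv)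
  haveI : IsScalarTower (A ⧸ Iw) (A ⧸ Iv) x := IsScalarTower.of_algebraMap_smul fun _ _ => rfl
  obtain ⟨M, _, _, _, ⟨e⟩⟩ := exists_invertible_lift q q'
    (Ideal.Quotient.factor_surjective le_sup_left) (Ideal.Quotient.factor_surjective le_sup_right) hcrt hinj x
  refine ⟨Pic.mk (A ⧸ Iw) M, ?_⟩
  show Pic.mapAlgebra (A ⧸ Iw) (A ⧸ Iv) (Pic.mk (A ⧸ Iw) M) = x
  rw [Pic.mapAlgebra_apply, Pic.mk_eq_iff]
  exact ⟨AlgebraTensorModule.congr (LinearEquiv.refl _ _) (Pic.mk.linearEquiv _ M) ≪≫ₗ e⟩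

end Groth.Agent.PicLib
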